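import Groth.Agent.AlgGrpLib.AffineCriterion
import Groth.Agent.AlgGrpLib.AntiAffine
import Groth.Agent.AlgGrpLib.CentreRep
import Groth.Agent.AlgGrpLib.ExactSeqBasics
import Groth.Agent.GrpQLib.AffineGroupQuot
import Groth.Agent.SGA3cLib.Transporter
import Groth.Agent.SGA3UnitSec.Translate

/-! The centre of a connected algebraic group and its affine quotient. -/

set_option autoImplicit false
set_option backward.isDefEq.respectTransparency.types false
set_option linter.style.haveILetI false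
universe u

open CategoryTheory Limits MonoidalCategory CartesianMonoidalCategory MonObj GrpObj AlgebraicGeometry
open Groth.Agent.AlgGrpLib

namespace Groth.Agent.SGA3Centre26

variable {k : Type u} [Field k]

/-- An anti-affine subgroup of a connected algebraic group is central. -/
theorem central_of_antiAffine {G N : Over (Spec (CommRingCat.of k))} [GrpObj G] [GrpObj N]
    [LocallyOfFiniteType G.hom] [ConnectedSpace G.left] [LocallyOfFiniteType N.hom] [QuasiCompact N.hom]
    (hb : Function.Bijective N.hom.appTop) (i : N ⟶ G) [IsMonHom i]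
    {W : Over (Spec (CommRingCat.of k))} (n : W ⟶ N) (h : W ⟶ G) :
    (n ≫ i) * h = h * (n ≫ i) := by
  haveI : CompactSpace N.left := QuasiCompact.compactSpace_of_compactSpace N.hom
  haveI : IsLocallyNoetherian N.left := LocallyOfFiniteType.isLocallyNoetherian N.hom
  haveI : IsLocallyNoetherian G.left := LocallyOfFiniteType.isLocallyNoetherian G.hom
  haveI : IsSeparated G.hom := Groth.Agent.SGA3xLib.isSeparated_of_grpObj G
  let f : N ⊗ G ⟶ G := (fst N G ≫ i) * snd N G * (fst N G ≫ i)⁻¹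
  have hpt : ∀ {T : Over (Spec (CommRingCat.of k))} (a : T ⟶ N) (b : T ⟶ G),
      lift a b ≫ f = (a ≫ i) * b * (a ≫ i)⁻¹ := by
    intro T a b
    simp only [f, MonObj.comp_mul, GrpObj.comp_inv, lift_fst_assoc, lift_snd]
  have hf : (N ◁ η[G]) ≫ f = toUnit _ ≫ lift η[N] η[G] ≫ f := by
    rw [hpt, MonObj.one_eq_one G]
    simp only [f, MonObj.comp_mul, GrpObj.comp_inv, whiskerLeft_fst_assoc, whiskerLeft_snd, MonObj.comp_one,
      MonObj.one_eq_one N, MonObj.one_comp, _root_.mul_one, _root_.one_mul, mul_inv_cancel, inv_one]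
  have key := eq_snd_of_antiAffine hb η[N] η[G] f hf
  have h2 : f = snd N G := by
    rw [key, hpt, MonObj.one_eq_one N, MonObj.comp_one, MonObj.one_comp]
    simp
  have h3 := hpt n h
  rw [h2, lift_snd] at h3
  nth_rewrite 2 [h3]
  simp [_root_.mul_assoc]

/-- The centre is closed, and the quotient by it is affine. -/
theorem exists_centre_affine_quotient (G : Over (Spec (CommRingCat.of k))) [GrpObj G]
    [LocallyOfFiniteType G.hom] [QuasiCompact G.hom] [ConnectedSpace G.left] :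
    ∃ (Z : Over (Spec (CommRingCat.of k))) (_ : GrpObj Z) (i : Z ⟶ G), IsMonHom i ∧ IsClosedImmersion i.left ∧
      (∀ (T : Over (Spec (CommRingCat.of k))) (g : T ⟶ G),
        (∃ z : T ⟶ Z, z ≫ i = g) ↔ ∀ (T' : Over (Spec (CommRingCat.of k))) (t : T' ⟶ T) (h : T' ⟶ G),
          (t ≫ g) * h = h * (t ≫ g)) ∧
      ∃ (Q : Over (Spec (CommRingCat.of k))) (_ : GrpObj Q) (q : G ⟶ Q), IsMonHom q ∧ IsAffine Q.left ∧
        LocallyOfFiniteType Q.hom ∧ Flat q.left ∧ Surjective q.left ∧ AlgGrp.IsKernel i q := by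
  haveI : IsSeparated G.hom := Groth.Agent.SGA3xLib.isSeparated_of_grpObj G
  obtain ⟨gA, hψ, N, gN, j, hj, hjc, hNl, hNq, hNb, hA, hfl, hsu, hker⟩ := AffineHull.exists_antiAffine_kernel G
  let A := affOf G
  let ψ : G ⟶ A := toAffOf G
  haveI : IsMonHom ψ := hψ
  haveI : LocallyOfFiniteType A.hom := hA
  haveI : Flat ψ.left := hfl
  haveI : Surjective ψ.left := hsu
  haveI : QuasiCompact ψ.left := quasiCompact_left ψ
  haveI : LocallyOfFinitePresentation ψ.left := ExactSeqBasics.locallyOfFinitePresentation_left ψ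
  -- descend conjugation to an action of the affine hull
  have sqc := Groth.Agent.SGA3UnitSec.isPullback_whisker ψ G
  haveI : Flat (ψ ▷ G).left := MorphismProperty.of_isPullback sqc inferInstance
  haveI : Surjective (ψ ▷ G).left := MorphismProperty.of_isPullback sqc inferInstance
  haveI : LocallyOfFinitePresentation (ψ ▷ G).left := MorphismProperty.of_isPullback sqc inferInstance
  let φ : G ⊗ G ⟶ G := fst G G * snd G G * (fst G G)⁻¹
  obtain ⟨α, hα⟩ : ∃ α : A ⊗ G ⟶ G, (ψ ▷ G) ≫ α = φ := by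
    refine GrpQLib.exists_desc_fppf (ψ ▷ G) φ fun {W} a b e => ?_
    have e1 := congrArg (· ≫ fst A G) e
    have e2 := congrArg (· ≫ snd A G) e
    simp only [Category.assoc, whiskerRight_fst, whiskerRight_snd] at e1 e2
    obtain ⟨n, hn⟩ := exists_lift_kernel hker (g := (a ≫ fst G G)⁻¹ * (b ≫ fst G G)) (by
      rw [MonObj.mul_comp, GrpObj.inv_comp, Category.assoc, Category.assoc, e1, inv_mul_cancel])
    have hb1 : b ≫ fst G G = (a ≫ fst G G) * (n ≫ j) := by rw [hn, mul_inv_cancel_left]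
    have hc := central_of_antiAffine hNb j n (a ≫ snd G G)
    simp only [φ, MonObj.comp_mul, GrpObj.comp_inv]
    rw [hb1, ← e2, _root_.mul_inv_rev, _root_.mul_assoc (a ≫ fst G G) (n ≫ j), hc]
    simp [_root_.mul_assoc]
  have hconj : ∀ {T : Over (Spec (CommRingCat.of k))} (g h : T ⟶ G), lift (g ≫ ψ) h ≫ α = g * h * g⁻¹ := by
    intro T g h
    rw [← lift_whiskerRight g h ψ, Category.assoc, hα]
    simp only [φ, MonObj.comp_mul, GrpObj.comp_inv, lift_fst, lift_snd]
  have hcover : ∀ {T : Over (Spec (CommRingCat.of k))} (a : T ⟶ A),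
      ∃ (T' : Over (Spec (CommRingCat.of k))) (c : T' ⟶ T) (g : T' ⟶ G), Epi c ∧ g ≫ ψ = c ≫ a := by
    intro T a
    obtain ⟨T', c, g, hs, hf, hq, e⟩ := exists_lift_cover ψ a
    haveI : Epi c.left := Flat.epi_of_flat_of_surjective c.left
    exact ⟨T', c, g, Over.epi_of_epi_left _, e⟩
  have hone : ∀ {T : Over (Spec (CommRingCat.of k))} (x : T ⟶ G), lift (1 : T ⟶ A) x ≫ α = x := by
    intro T x
    rw [← MonObj.one_comp (X := T) ψ, hconj]
    simp
  have hmul : ∀ {T : Over (Spec (CommRingCat.of k))} (a b : T ⟶ A) (x : T ⟶ G),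
      lift (a * b) x ≫ α = lift a (lift b x ≫ α) ≫ α := by
    intro T a b x
    obtain ⟨T₁, c₁, g₁, hc₁, e₁⟩ := hcover a
    obtain ⟨T₂, c₂, g₂, hc₂, e₂⟩ := hcover (c₁ ≫ b)
    rw [← cancel_epi c₁, ← cancel_epi c₂]
    simp only [comp_lift_assoc, comp_lift, MonObj.comp_mul, ← e₁, ← e₂]
    rw [← Category.assoc c₂ g₁ ψ, ← MonObj.mul_comp, hconj, hconj, hconj, _root_.mul_inv_rev]
    simp [_root_.mul_assoc]
  -- the kernel of the action
  have hfree : SGA3x.IsEssentiallyFree G.hom :=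
    isEssentiallyFree_hom G
  obtain ⟨Z', t, ht, hZ'⟩ := SGA3cLib.exists_transporter_eq (P := A) hfree (lift (snd G A) (fst G A) ≫ α) (fst G A)
  haveI := ht
  haveI : Mono t := Over.mono_of_mono_left t
  have hP : ∀ {T : Over (Spec (CommRingCat.of k))} (a : T ⟶ A), (∃ z, z ≫ t = a) ↔
      ∀ (T' : Over (Spec (CommRingCat.of k))) (s : T' ⟶ T) (x : T' ⟶ G), lift (s ≫ a) x ≫ α = x := by
    intro T a
    rw [hZ']
    refine forall_congr' fun T' => forall_congr' fun s => forall_congr' fun x => ?_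
    simp only [comp_lift_assoc, lift_fst, lift_snd]
  obtain ⟨gZ', hgt⟩ := SGA3cLib.exists_grpObj_of_subgroup t
    (fun T => (hP _).2 fun T' s x => by rw [MonObj.comp_one]; exact hone x)
    (fun T a b => (hP _).2 fun T' s x => by
      rw [MonObj.comp_mul, hmul, (hP _).1 ⟨b, rfl⟩ T' s x, (hP _).1 ⟨a, rfl⟩ T' s x])
    (fun T a => (hP _).2 fun T' s x => by
      conv_lhs => rw [← (hP _).1 ⟨a, rfl⟩ T' s x, GrpObj.comp_inv, ← hmul, inv_mul_cancel]
      exact hone x)
  haveI := hgt
  have hN : AlgGrp.IsNormalHom t := by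
    intro T b a
    obtain ⟨z, hz⟩ := (hP (b * (a ≫ t) * b⁻¹)).2 fun T' s x => by
      rw [MonObj.comp_mul, MonObj.comp_mul, GrpObj.comp_inv, hmul, hmul, (hP _).1 ⟨a, rfl⟩, ← hmul,
        mul_inv_cancel]
      exact hone x
    exact ⟨z, hz.symm⟩
  haveI : IsAffine A.left := inferInstanceAs (IsAffine (affOf G).left)
  obtain ⟨Q, gQ, q', hq', hQa, hQl, hqf, hqs, hqk⟩ := HopfQuot.exists_affine_quotient A Z' t hN
  haveI := hq'
  haveI := hqf
  haveI := hqs
  obtain ⟨Z, incl, hinc, hZ⟩ := exists_centre G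
  haveI := hinc
  haveI : Mono incl := Over.mono_of_mono_left incl
  have hZc : ∀ {T : Over (Spec (CommRingCat.of k))} (z : T ⟶ Z) (h : T ⟶ G), (z ≫ incl) * h = h * (z ≫ incl) := by
    intro T z h
    simpa using (hZ _ (z ≫ incl)).1 ⟨z, rfl⟩ T (𝟙 T) h
  obtain ⟨gZ, hgi⟩ := SGA3cLib.exists_grpObj_of_subgroup incl
    (fun T => (hZ _ _).2 fun T' h g' => by rw [MonObj.comp_one, _root_.one_mul, _root_.mul_one])
    (fun T a b => (hZ _ _).2 fun T' h g' => by
      rw [MonObj.comp_mul]
      have ha := hZc (h ≫ a) g'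
      have hb := hZc (h ≫ b) g'
      simp only [Category.assoc] at ha hb
      rw [_root_.mul_assoc, hb, ← _root_.mul_assoc, ha, _root_.mul_assoc])
    (fun T a => (hZ _ _).2 fun T' h g' => by
      rw [GrpObj.comp_inv]
      have ha := hZc (h ≫ a) g'
      simp only [Category.assoc] at ha
      exact (Commute.inv_left ha).eq)
  refine ⟨Z, gZ, incl, hgi, hinc, hZ, Q, gQ, ψ ≫ q', inferInstance, hQa, hQl, ?_, ?_, ?_⟩
  · rw [Over.comp_left]; infer_instance
  · rw [Over.comp_left]; infer_instance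
  refine isKernel_of_points incl (ψ ≫ q') ?_ fun T g hg => ?_
  · obtain ⟨z, hz⟩ := (hP (incl ≫ ψ)).2 fun T' s x => by
      rw [← Category.assoc, hconj]
      have h := hZc s x
      rw [h, mul_inv_cancel_right]
    rw [← Category.assoc, ← hz, Category.assoc, kernel_comp hqk, MonObj.comp_one]
  · obtain ⟨z, hz⟩ := exists_lift_kernel hqk (g := g ≫ ψ) (by rw [Category.assoc]; exact hg)
    refine (hZ _ g).2 fun T' h g' => ?_
    have h1 := (hP _).1 ⟨z, hz⟩ T' h g'
    rw [← Category.assoc, hconj] at h1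
    exact mul_inv_eq_iff_eq_mul.1 h1

end Groth.Agent.SGA3Centre26
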